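import Mathlib

/-!
# Traces and eigenvalues of `X` on finite dimensional `ℂ[X]`-modules in short exact sequences
-/

set_option autoImplicit false
set_option linter.style.haveILetI false
set_option backward.isDefEq.respectTransparency false
set_option backward.isDefEq.respectTransparency.types false

universe u w

open CategoryTheory CategoryTheory.Limits Polynomial

namespace Groth.Agent.SpSeqTrace

section Linear

variable {k : Type w} [Field k] {V₁ V₂ V₃ : Type u} [AddCommGroup V₁] [Module k V₁] [AddCommGroup V₂]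
  [Module k V₂] [AddCommGroup V₃] [Module k V₃] [FiniteDimensional k V₂]

theorem trace_of_exact (a : V₁ →ₗ[k] V₂) (b : V₂ →ₗ[k] V₃) (h : Function.Exact a b)
    (ha : Function.Injective a) (hb : Function.Surjective b) (f₁ : Module.End k V₁)
    (f₂ : Module.End k V₂) (f₃ : Module.End k V₃) (c₁ : f₂ ∘ₗ a = a ∘ₗ f₁)
    (c₂ : b ∘ₗ f₂ = f₃ ∘ₗ b) :
    LinearMap.trace k V₂ f₂ = LinearMap.trace k V₁ f₁ + LinearMap.trace k V₃ f₃ := by
  haveI : FiniteDimensional k V₁ := Module.Finite.of_injective a ha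
  haveI : FiniteDimensional k V₃ := Module.Finite.of_surjective b hb
  obtain ⟨r, hr⟩ := a.exists_leftInverse_of_injective (LinearMap.ker_eq_bot.2 ha)
  obtain ⟨s, hs⟩ := b.exists_rightInverse_of_surjective (LinearMap.range_eq_top.2 hb)
  let s' := s - a ∘ₗ r ∘ₗ s
  have hbs' : b ∘ₗ s' = LinearMap.id := by
    refine LinearMap.ext fun y => ?_
    simp only [s', LinearMap.comp_apply, LinearMap.sub_apply, map_sub, h.apply_apply_eq_zero,
      sub_zero, LinearMap.id_apply]
    exact LinearMap.congr_fun hs y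
  have hid : ∀ x, x = a (r x) + s' (b x) := by
    intro x
    obtain ⟨y, hy⟩ := (h (x - s (b x))).1 (by
      rw [map_sub, ← LinearMap.comp_apply b s, hs, LinearMap.id_apply, sub_self])
    have hy' : r (x - s (b x)) = y := by rw [← hy]; exact LinearMap.congr_fun hr y
    rw [← hy', map_sub, map_sub] at hy
    simp only [s', LinearMap.sub_apply, LinearMap.comp_apply]
    calc x = (x - s (b x)) + s (b x) := by abel
      _ = (a (r x) - a (r (s (b x)))) + s (b x) := by rw [hy]
      _ = _ := by abel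
  have e : f₂ = (f₂ ∘ₗ a) ∘ₗ r + (f₂ ∘ₗ s') ∘ₗ b := by
    refine LinearMap.ext fun x => ?_
    rw [LinearMap.add_apply, LinearMap.comp_apply, LinearMap.comp_apply, LinearMap.comp_apply,
      LinearMap.comp_apply, ← map_add, ← hid]
  conv_lhs => rw [e, map_add, LinearMap.trace_comp_comm' r, LinearMap.trace_comp_comm' b]
  rw [c₁, ← LinearMap.comp_assoc _ a r, hr, LinearMap.id_comp, ← LinearMap.comp_assoc _ f₂ b, c₂,
    LinearMap.comp_assoc _ b f₃, hbs', LinearMap.comp_id]

theorem hasEigenvalue_of_injective (a : V₁ →ₗ[k] V₂) (ha : Function.Injective a)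
    (f₁ : Module.End k V₁) (f₂ : Module.End k V₂) (c : f₂ ∘ₗ a = a ∘ₗ f₁) (μ : k)
    (h : f₁.HasEigenvalue μ) : f₂.HasEigenvalue μ := by
  obtain ⟨v, hv⟩ := h.exists_hasEigenvector
  refine Module.End.hasEigenvalue_of_hasEigenvector (x := a v) ⟨?_, fun h0 => hv.2 (ha ?_)⟩
  · rw [Module.End.mem_eigenspace_iff, ← LinearMap.comp_apply, c, LinearMap.comp_apply,
      hv.apply_eq_smul, map_smul]
  · rw [h0, map_zero]

theorem hasEigenvalue_of_surjective (b : V₂ →ₗ[k] V₃) (hb : Function.Surjective b)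
    (f₂ : Module.End k V₂) (f₃ : Module.End k V₃) (c : b ∘ₗ f₂ = f₃ ∘ₗ b) (μ : k)
    (h : f₃.HasEigenvalue μ) : f₂.HasEigenvalue μ := by
  by_contra hne
  haveI : FiniteDimensional k V₃ := Module.Finite.of_surjective b hb
  obtain ⟨v, hv⟩ := h.exists_hasEigenvector
  have hinj : Function.Injective (f₂ - μ • 1 : Module.End k V₂) := by
    rw [← LinearMap.ker_eq_bot, Submodule.eq_bot_iff]
    intro x hx
    by_contra hx0
    refine hne (Module.End.hasEigenvalue_of_hasEigenvector (x := x) ⟨?_, hx0⟩)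
    rw [Module.End.mem_eigenspace_iff]
    simpa [sub_eq_zero] using hx
  have hsurj := LinearMap.surjective_of_injective hinj
  have hsurj3 : Function.Surjective (f₃ - μ • 1 : Module.End k V₃) := by
    intro y
    obtain ⟨x, rfl⟩ := hb y
    obtain ⟨z, rfl⟩ := hsurj x
    refine ⟨b z, ?_⟩
    have := LinearMap.congr_fun c z
    simp only [LinearMap.comp_apply] at this
    simp [this]
  refine hv.2 (LinearMap.injective_iff_surjective.2 hsurj3 ?_)
  simp [hv.apply_eq_smul]

end Linear

theorem norm_trace_le {V : Type u} [AddCommGroup V] [Module ℂ V] [FiniteDimensional ℂ V]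
    (f : Module.End ℂ V) (B : ℝ) (h : ∀ μ : ℂ, f.HasEigenvalue μ → ‖μ‖ ≤ B) :
    ‖LinearMap.trace ℂ V f‖ ≤ Module.finrank ℂ V * B := by
  rw [Module.End.trace_eq_sum_roots_charpoly_of_splits (IsAlgClosed.splits _)]
  have hb : ∀ x ∈ f.charpoly.roots.map (fun μ => ‖μ‖), x ≤ B := by
    intro x hx
    obtain ⟨μ, hμ, rfl⟩ := Multiset.mem_map.1 hx
    exact h μ (((f.hasEigenvalue_iff_isRoot_charpoly μ).2 (Polynomial.isRoot_of_mem_roots hμ)))
  refine (norm_multiset_sum_le _).trans ((Multiset.sum_le_card_nsmul _ B hb).trans ?_)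
  rw [Multiset.card_map, IsAlgClosed.card_roots_eq_natDegree, LinearMap.charpoly_natDegree,
    nsmul_eq_mul]

section Mod

/-- The underlying complex vector space. -/
noncomputable abbrev UC (M : ModuleCat.{u} (Polynomial ℂ)) : ModuleCat.{u} ℂ :=
  (ModuleCat.restrictScalars (algebraMap ℂ (Polynomial ℂ))).obj M

/-- Multiplication by `X` on the underlying complex vector space. -/
noncomputable abbrev xEnd (M : ModuleCat.{u} (Polynomial ℂ)) : Module.End ℂ (UC M) :=
  ((ModuleCat.restrictScalars (algebraMap ℂ (Polynomial ℂ))).map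
    ((Polynomial.X : Polynomial ℂ) • 𝟙 M)).hom

/-- The trace of `X`. -/
noncomputable abbrev tr (M : ModuleCat.{u} (Polynomial ℂ)) : ℂ :=
  LinearMap.trace ℂ _ (xEnd M)

/-- Finite dimension, bounded eigenvalues and bounded dimension. -/
def Bdd (M : ModuleCat.{u} (Polynomial ℂ)) (B : ℝ) (D : ℕ) : Prop :=
  Module.Finite ℂ (UC M) ∧ (∀ μ : ℂ, (xEnd M).HasEigenvalue μ → ‖μ‖ ≤ B) ∧
    Module.finrank ℂ (UC M) ≤ D

variable {M N : ModuleCat.{u} (Polynomial ℂ)}

/-- A morphism on the underlying complex vector spaces. -/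
noncomputable abbrev ul (g : M ⟶ N) : (UC M : Type u) →ₗ[ℂ] (UC N : Type u) :=
  ((ModuleCat.restrictScalars (algebraMap ℂ (Polynomial ℂ))).map g).hom

theorem ul_comm (g : M ⟶ N) : xEnd N ∘ₗ ul g = ul g ∘ₗ xEnd M :=
  LinearMap.ext fun x => (g.hom.map_smul (Polynomial.X : Polynomial ℂ) (x : M)).symm

theorem ul_injective (g : M ⟶ N) [Mono g] : Function.Injective (ul g) :=
  (ModuleCat.mono_iff_injective g).1 inferInstance

theorem ul_surjective (g : M ⟶ N) [Epi g] : Function.Surjective (ul g) :=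
  (ModuleCat.epi_iff_surjective g).1 inferInstance

theorem Bdd.of_mono (g : M ⟶ N) [Mono g] {B : ℝ} {D : ℕ} (h : Bdd N B D) : Bdd M B D := by
  haveI := h.1
  haveI : Module.Finite ℂ (UC M) := Module.Finite.of_injective (ul g) (ul_injective g)
  exact ⟨inferInstance, fun μ hμ => h.2.1 μ
    (hasEigenvalue_of_injective (ul g) (ul_injective g) _ _ (ul_comm g) μ hμ),
    (LinearMap.finrank_le_finrank_of_injective (ul_injective g)).trans h.2.2⟩

theorem Bdd.of_epi (g : M ⟶ N) [Epi g] {B : ℝ} {D : ℕ} (h : Bdd M B D) : Bdd N B D := by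
  haveI := h.1
  have hs := ul_surjective g
  haveI : Module.Finite ℂ (UC N) := Module.Finite.of_surjective (ul g) hs
  refine ⟨inferInstance, fun μ hμ => h.2.1 μ
    (hasEigenvalue_of_surjective (ul g) hs _ _ (ul_comm g).symm μ hμ), le_trans ?_ h.2.2⟩
  rw [← finrank_top ℂ (UC N), ← LinearMap.range_eq_top.2 hs]
  exact LinearMap.finrank_range_le _

theorem Bdd.norm_tr {B : ℝ} {D : ℕ} (hB : 0 ≤ B) (h : Bdd M B D) : ‖tr M‖ ≤ D * B := by
  haveI := h.1
  exact (norm_trace_le _ B h.2.1).trans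
    (mul_le_mul_of_nonneg_right (Nat.cast_le.2 h.2.2) hB)

theorem bdd_of_isZero (h : IsZero M) (B : ℝ) : Bdd M B 0 := by
  haveI : Subsingleton (UC M) :=
    ModuleCat.subsingleton_of_isZero ((ModuleCat.restrictScalars _).map_isZero h)
  refine ⟨inferInstance, fun μ hμ => ?_, (Module.finrank_zero_of_subsingleton).le⟩
  obtain ⟨v, hv⟩ := hμ.exists_hasEigenvector
  exact absurd (Subsingleton.elim v 0) hv.2

theorem tr_eq_zero_of_isZero (h : IsZero M) : tr M = 0 := by
  haveI : Subsingleton (UC M) :=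
    ModuleCat.subsingleton_of_isZero ((ModuleCat.restrictScalars _).map_isZero h)
  rw [tr, Subsingleton.elim (xEnd M) 0, map_zero]

theorem tr_iso (e : M ≅ N) : tr M = tr N := by
  let l : (UC M : Type u) ≃ₗ[ℂ] (UC N : Type u) :=
    ((ModuleCat.restrictScalars (algebraMap ℂ (Polynomial ℂ))).mapIso e).toLinearEquiv
  rw [tr, tr, ← LinearMap.trace_conj' (xEnd M) l]
  congr 1
  refine LinearMap.ext fun y => ?_
  obtain ⟨x, rfl⟩ := l.surjective y
  rw [LinearEquiv.conj_apply_apply, LinearEquiv.symm_apply_apply]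
  exact (LinearMap.congr_fun (ul_comm e.hom) x).symm

variable {S : ShortComplex (ModuleCat.{u} (Polynomial ℂ))} (hS : S.ShortExact)

include hS

theorem shortExact_ul_exact : Function.Exact (ul S.f) (ul S.g) :=
  (ShortComplex.ShortExact.moduleCat_exact_iff_function_exact _).1 hS.exact

theorem tr_shortExact [Module.Finite ℂ (UC S.X₂)] : tr S.X₂ = tr S.X₁ + tr S.X₃ := by
  haveI := hS.mono_f
  haveI := hS.epi_g
  exact trace_of_exact (ul S.f) (ul S.g) (shortExact_ul_exact hS) (ul_injective _)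
    (ul_surjective _) _ _ _ (ul_comm _) (ul_comm _).symm

theorem finite_shortExact [Module.Finite ℂ (UC S.X₁)] [Module.Finite ℂ (UC S.X₃)] :
    Module.Finite ℂ (UC S.X₂) := by
  haveI := hS.epi_g
  exact Module.Finite.of_exact (shortExact_ul_exact hS) (ul_surjective _)

end Mod

end Groth.Agent.SpSeqTrace
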