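import Groth.Prelude.Def_SpSeq
import Groth.Agent.SpSeqTrace.Basic
import Groth.Agent.SpSeqPO.Abut

/-!
# Trace formula for spectral sequences of `ℂ[X]`-modules
-/

set_option autoImplicit false
set_option linter.style.haveILetI false
set_option backward.isDefEq.respectTransparency false
set_option backward.isDefEq.respectTransparency.types false

universe u

open CategoryTheory CategoryTheory.Limits Polynomial Filter Topology

namespace Groth.Agent.SpSeqTrace

abbrev Mod := ModuleCat.{u} (Polynomial ℂ)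

section Cx

variable {ι : Type} {c : ComplexShape ι} (P : HomologicalComplex Mod.{u} c)

/-- The boundaries entering position `j`. -/
noncomputable abbrev bd (j : ι) : Mod.{u} := kernel (P.homologyπ j)

/-- The map onto the boundaries. -/
noncomputable abbrev toBd (i j : ι) : P.X i ⟶ bd P j :=
  kernel.lift (P.homologyπ j) (P.toCycles i j) (P.toCycles_comp_homologyπ i j)

theorem epi_toBd (i j : ι) (hi : c.prev j = i) : Epi (toBd P i j) :=
  (ShortComplex.exact_of_g_is_cokernel (ShortComplex.mk _ _ (P.toCycles_comp_homologyπ i j))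
    (P.homologyIsCokernel i j hi)).epi_kernelLift

theorem shortExact_homologyπ (j : ι) :
    (ShortComplex.mk (kernel.ι (P.homologyπ j)) (P.homologyπ j) (kernel.condition _)).ShortExact :=
  { exact := ShortComplex.exact_of_f_is_kernel _ (kernelIsKernel _) }

theorem tr_cycles (j : ι) [Module.Finite ℂ (UC (P.cycles j))] :
    tr (P.cycles j) = tr (bd P j) + tr (P.homology j) :=
  tr_shortExact (shortExact_homologyπ P j)

theorem iCycles_toBd (i j : ι) : P.iCycles i ≫ toBd P i j = 0 := by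
  rw [← cancel_mono (kernel.ι (P.homologyπ j)), Category.assoc, kernel.lift_ι, Limits.zero_comp,
    ← cancel_mono (P.iCycles j), Category.assoc, P.toCycles_i, P.iCycles_d, Limits.zero_comp]

theorem tr_X (i j : ι) (hn : c.next i = j) (hp : c.prev j = i) [Module.Finite ℂ (UC (P.X i))] :
    tr (P.X i) = tr (P.cycles i) + tr (bd P j) := by
  haveI := epi_toBd P i j hp
  have hex : (ShortComplex.mk (P.iCycles i) (toBd P i j) (iCycles_toBd P i j)).Exact := by
    rw [ShortComplex.exact_iff_exact_up_to_refinements]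
    intro A x hx
    have hx' : x ≫ P.d i j = 0 := by
      have := congrArg (· ≫ kernel.ι (P.homologyπ j) ≫ P.iCycles j) hx
      simpa using this
    exact ⟨A, 𝟙 A, inferInstance, P.liftCycles x j hn hx', by simp⟩
  exact tr_shortExact (S := ShortComplex.mk _ _ (iCycles_toBd P i j)) { exact := hex }

theorem tr_homology (i j k : ι) (hij : c.prev j = i) (hjk : c.next j = k) (hkj : c.prev k = j)
    [Module.Finite ℂ (UC (P.X j))] :
    tr (P.homology j) = tr (P.X j) - tr (bd P k) - tr (bd P j) := by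
  haveI : Module.Finite ℂ (UC (P.cycles j)) :=
    Module.Finite.of_injective (ul (P.iCycles j)) (ul_injective _)
  rw [tr_X P j k hjk hkj, tr_cycles P j]
  ring

theorem Bdd.homology {j : ι} {B : ℝ} {D : ℕ} (h : Bdd (P.X j) B D) : Bdd (P.homology j) B D :=
  (h.of_mono (P.iCycles j)).of_epi (P.homologyπ j)

theorem Bdd.bd {i j : ι} (hi : c.prev j = i) {B : ℝ} {D : ℕ} (h : Bdd (P.X i) B D) :
    Bdd (bd P j) B D := by
  haveI := epi_toBd P i j hi
  exact h.of_epi (toBd P i j)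

theorem isZero_bd_of_isZero {j : ι} (h : IsZero (P.X j)) : IsZero (bd P j) :=
  IsZero.of_mono (kernel.ι (P.homologyπ j) ≫ P.iCycles j) h

theorem isZero_bd_of_isZero_prev {i j : ι} (hi : c.prev j = i) (h : IsZero (P.X i)) :
    IsZero (bd P j) := by
  haveI := epi_toBd P i j hi
  exact IsZero.of_epi (toBd P i j) h

end Cx

/-- The sign. -/
noncomputable def sgn (pq : ℤ × ℤ) : ℂ := (-1 : ℂ) ^ (pq.1 + pq.2)

/-- The inclusion of the first quadrant. -/
def toZ (pq : ℕ × ℕ) : ℤ × ℤ := ((pq.1 : ℤ), (pq.2 : ℤ))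

theorem toZ_injective : Function.Injective toZ := fun a b h => by
  obtain ⟨h1, h2⟩ := Prod.ext_iff.1 h
  exact Prod.ext (Nat.cast_injective h1) (Nat.cast_injective h2)

theorem mem_range_toZ {pq : ℤ × ℤ} (h : ¬(pq.1 < 0 ∨ pq.2 < 0)) : pq ∈ Set.range toZ := by
  simp only [not_or, not_lt] at h
  exact ⟨(pq.1.toNat, pq.2.toNat), Prod.ext (Int.toNat_of_nonneg h.1) (Int.toNat_of_nonneg h.2)⟩

theorem sgn_toZ (pq : ℕ × ℕ) : sgn (toZ pq) = (-1 : ℂ) ^ (pq.1 + pq.2) := by
  rw [sgn, ← zpow_natCast]; push_cast; rfl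

theorem norm_sgn (pq : ℤ × ℤ) : ‖sgn pq‖ = 1 := by
  rw [sgn, norm_zpow, norm_neg, norm_one, one_zpow]

theorem sgn_sub (pq : ℤ × ℤ) (r : ℤ) : sgn (pq - (r, 1 - r)) = - sgn pq := by
  rw [sgn, sgn, show (pq - (r, 1 - r)).1 + (pq - (r, 1 - r)).2 = (pq.1 + pq.2) - 1 by
    simp only [Prod.fst_sub, Prod.snd_sub]; ring, zpow_sub_one₀ (by norm_num)]
  norm_num

/-- The bound on the trace at a position. -/
noncomputable def bound (N : ℕ) (a c : ℕ → ℝ) (b d : ℕ → ℕ) (pq : ℕ × ℕ) : ℝ :=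
  (c pq.1 * (d pq.1 : ℝ)) * (if pq.2 ≤ N then a pq.2 * (b pq.2 : ℝ) else 0)

theorem summable_bound {N : ℕ} {a c : ℕ → ℝ} {b d : ℕ → ℕ} (ha : ∀ q, 0 ≤ a q) (hc : ∀ p, 0 ≤ c p)
    (hsum : Summable fun p : ℕ => c p * (d p : ℝ)) : Summable (bound N a c b d) := by
  refine Summable.mul_of_nonneg (g := fun q : ℕ => if q ≤ N then a q * (b q : ℝ) else 0) hsum
    (summable_of_ne_finset_zero (s := Finset.range (N + 1)) fun q hq => ?_)
    (fun p => mul_nonneg (hc p) (Nat.cast_nonneg _)) (fun q => ?_)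
  · rw [if_neg (by simpa [Finset.mem_range] using hq)]
  · dsimp only; split_ifs
    · exact mul_nonneg (ha q) (Nat.cast_nonneg _)
    · exact le_rfl

variable (E : E₂CohomologicalSpectralSequence Mod.{u}) (N : ℕ) (a c : ℕ → ℝ) (b d : ℕ → ℕ)

/-- The boundedness condition on a page. -/
structure Cond (r : ℤ) (hr : 2 ≤ r) : Prop where
  quad : ∀ pq : ℤ × ℤ, pq.1 < 0 ∨ pq.2 < 0 → IsZero ((E.page r hr).X pq)
  top : ∀ p q : ℕ, N < q → IsZero ((E.page r hr).X (toZ (p, q)))
  bdd : ∀ p q : ℕ, Bdd ((E.page r hr).X (toZ (p, q))) (a q * c p) (b q * d p)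

/-- The trace term on a page. -/
noncomputable def G (r : ℤ) (hr : 2 ≤ r) (pq : ℤ × ℤ) : ℂ := sgn pq * tr ((E.page r hr).X pq)

variable {E N a c b d}

theorem Cond.finite {r : ℤ} {hr : 2 ≤ r} (h : Cond E N a c b d r hr) (pq : ℤ × ℤ) :
    Module.Finite ℂ (UC ((E.page r hr).X pq)) := by
  by_cases hpq : pq.1 < 0 ∨ pq.2 < 0
  · exact (bdd_of_isZero (h.quad pq hpq) 0).1
  · obtain ⟨nm, rfl⟩ := mem_range_toZ hpq
    exact (h.bdd nm.1 nm.2).1

theorem norm_tr_le (ha : ∀ q, 0 ≤ a q) (hc : ∀ p, 0 ≤ c p) {M : Mod.{u}} (p q : ℕ)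
    (hM : Bdd M (a q * c p) (b q * d p)) (h0 : N < q → IsZero M) :
    ‖tr M‖ ≤ bound N a c b d (p, q) := by
  rw [bound]
  dsimp only
  by_cases hq : q ≤ N
  · rw [if_pos hq]
    refine (hM.norm_tr (mul_nonneg (ha q) (hc p))).trans_eq ?_
    push_cast; ring
  · rw [if_neg hq, mul_zero, tr_eq_zero_of_isZero (h0 (not_le.1 hq)), norm_zero]

theorem summable_sgn_mul_tr (ha : ∀ q, 0 ≤ a q) (hc : ∀ p, 0 ≤ c p)
    (hsum : Summable fun p : ℕ => c p * (d p : ℝ)) (M : ℤ × ℤ → Mod.{u})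
    (hneg : ∀ pq : ℤ × ℤ, pq.1 < 0 ∨ pq.2 < 0 → IsZero (M pq))
    (hb : ∀ p q : ℕ, Bdd (M (toZ (p, q))) (a q * c p) (b q * d p))
    (htop : ∀ p q : ℕ, N < q → IsZero (M (toZ (p, q)))) :
    Summable (fun pq => sgn pq * tr (M pq)) ∧
      ∑' pq : ℕ × ℕ, sgn (toZ pq) * tr (M (toZ pq)) = ∑' pq, sgn pq * tr (M pq) := by
  have hz : ∀ pq : ℤ × ℤ, pq ∉ Set.range toZ → sgn pq * tr (M pq) = 0 := fun pq h => by
    rw [tr_eq_zero_of_isZero (hneg pq (by by_contra h'; exact h (mem_range_toZ h'))), mul_zero]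
  refine ⟨(toZ_injective.summable_iff hz).1 ?_,
    toZ_injective.tsum_eq fun pq h => by_contra fun h' => h (hz pq h')⟩
  refine Summable.of_norm_bounded (summable_bound (N := N) (b := b) ha hc hsum) fun pq => ?_
  simp only [Function.comp_apply, norm_mul, norm_sgn, one_mul]
  exact norm_tr_le ha hc pq.1 pq.2 (hb pq.1 pq.2) (htop pq.1 pq.2)

theorem Cond.succ {r : ℤ} {hr : 2 ≤ r} (h : Cond E N a c b d r hr) :
    Cond E N a c b d (r + 1) (Int.le_add_one hr) := by
  refine ⟨fun pq hpq => ?_, fun p q hq => ?_, fun p q => ?_⟩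
  · exact (ShortComplex.isZero_homology_of_isZero_X₂ _ (h.quad pq hpq)).of_iso
      (E.iso r (r + 1) pq rfl hr).symm
  · exact (ShortComplex.isZero_homology_of_isZero_X₂ _ (h.top p q hq)).of_iso
      (E.iso r (r + 1) _ rfl hr).symm
  · exact (Bdd.homology _ (h.bdd p q)).of_mono (E.iso r (r + 1) _ rfl hr).inv

theorem Cond.of_le {r : ℤ} {hr : 2 ≤ r} (h : Cond E N a c b d r hr) (k : ℤ) (hk : r ≤ k) :
    Cond E N a c b d k (hr.trans hk) := by
  induction k, hk using Int.le_induction with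
  | base => exact h
  | succ k hk ih => exact ih.succ

theorem tsum_succ {r : ℤ} {hr : 2 ≤ r} (h : Cond E N a c b d r hr) (ha : ∀ q, 0 ≤ a q)
    (hc : ∀ p, 0 ≤ c p) (hsum : Summable fun p : ℕ => c p * (d p : ℝ)) :
    ∑' pq : ℕ × ℕ, G E (r + 1) (Int.le_add_one hr) (toZ pq) =
      ∑' pq : ℕ × ℕ, G E r hr (toZ pq) := by
  let P := E.page r hr
  let δ : ℤ × ℤ := (r, 1 - r)
  obtain ⟨s1, e1⟩ := summable_sgn_mul_tr ha hc hsum (fun pq => (E.page r hr).X pq) h.quad h.bdd h.top
  obtain ⟨-, e2⟩ := summable_sgn_mul_tr ha hc hsum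
    (fun pq => (E.page (r + 1) (Int.le_add_one hr)).X pq) h.succ.quad h.succ.bdd h.succ.top
  obtain ⟨sU, -⟩ := summable_sgn_mul_tr ha hc hsum (fun pq => bd P (pq + δ))
    (fun pq hpq => isZero_bd_of_isZero_prev P (i := pq)
      ((SpSeqPO.prev_up' r _).trans (add_sub_cancel_right _ _)) (h.quad pq hpq))
    (fun p q => Bdd.bd P (i := toZ (p, q))
      ((SpSeqPO.prev_up' r _).trans (add_sub_cancel_right _ _)) (h.bdd p q))
    (fun p q hq => isZero_bd_of_isZero_prev P (i := toZ (p, q))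
      ((SpSeqPO.prev_up' r _).trans (add_sub_cancel_right _ _)) (h.top p q hq))
  set U := fun pq : ℤ × ℤ => sgn pq * tr (bd P (pq + δ))
  have key : ∀ pq, G E (r + 1) (Int.le_add_one hr) pq =
      G E r hr pq - U pq + U (pq - δ) := by
    intro pq
    haveI := h.finite pq
    have hh := tr_homology P (pq - δ) pq (pq + δ) (SpSeqPO.prev_up' r pq) (SpSeqPO.next_up' r pq)
      ((SpSeqPO.prev_up' r _).trans (add_sub_cancel_right _ _))
    show sgn pq * tr _ = sgn pq * tr _ - sgn pq * _ + sgn (pq - δ) * tr (bd P (pq - δ + δ))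
    rw [← tr_iso (E.iso r (r + 1) pq rfl hr), hh, sub_add_cancel, sgn_sub]
    ring
  unfold G at key
  unfold G
  rw [e1, e2, tsum_congr key]
  have sU' : Summable fun pq => U (pq - δ) := (Equiv.subRight δ).summable_iff.2 sU
  have eU : ∑' pq, U (pq - δ) = ∑' pq, U pq := (Equiv.subRight δ).tsum_eq U
  have hsub : Summable fun pq => sgn pq * tr ((E.page r hr).X pq) - U pq := s1.sub sU
  rw [hsub.tsum_add sU', s1.tsum_sub sU, eU]
  ring

theorem tsum_of_le (h : Cond E N a c b d 2 le_rfl) (ha : ∀ q, 0 ≤ a q) (hc : ∀ p, 0 ≤ c p)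
    (hsum : Summable fun p : ℕ => c p * (d p : ℝ)) (k : ℤ) (hk : 2 ≤ k) :
    ∑' pq : ℕ × ℕ, G E k hk (toZ pq) = ∑' pq : ℕ × ℕ, G E 2 le_rfl (toZ pq) := by
  induction k, hk using Int.le_induction with
  | base => rfl
  | succ k hk ih => exact (tsum_succ (h.of_le k hk) ha hc hsum).trans ih

theorem fil_tr {X : Mod.{u}} (F : ℤ → Subobject X) (hF : Antitone F) (A B : ℤ) (hAB : A ≤ B)
    (hgr : ∀ s, Module.Finite ℂ (UC (SpSeq.grPiece F hF s)))
    (hB : Module.Finite ℂ (UC (F B : Mod.{u}))) :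
    Module.Finite ℂ (UC (F A : Mod.{u})) ∧
      tr (F A : Mod.{u}) =
        ∑ s ∈ Finset.Ico A B, tr (SpSeq.grPiece F hF s) + tr (F B : Mod.{u}) := by
  induction B, hAB using Int.le_induction with
  | base => exact ⟨hB, by simp⟩
  | succ B hle ih =>
    let i := (F (B + 1)).ofLE (F B) (hF (Int.le_add_one le_rfl))
    have hS : (ShortComplex.mk i (cokernel.π i) (cokernel.condition i)).ShortExact :=
      { exact := ShortComplex.exact_of_g_is_cokernel _ (cokernelIsCokernel i) }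
    haveI := hB
    haveI := hgr B
    haveI : Module.Finite ℂ (UC (cokernel i)) := hgr B
    haveI : Module.Finite ℂ (UC (F B : Mod.{u})) :=
      finite_shortExact (S := ShortComplex.mk i (cokernel.π i) (cokernel.condition i)) hS
    obtain ⟨hA, e⟩ := ih inferInstance
    refine ⟨hA, ?_⟩
    rw [e, tr_shortExact (S := ShortComplex.mk i (cokernel.π i) (cokernel.condition i)) hS,
      show Finset.Ico A (B + 1) = insert B (Finset.Ico A B) by ext; simp; omega,
      Finset.sum_insert (by simp)]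
    show _ + (tr (F (B + 1) : Mod.{u}) + tr (SpSeq.grPiece F hF B)) = _
    ring

theorem abutment_tsum {H : ℤ → Mod.{u}} (abut : SpSeq.Abutment E H)
    (hfin : ∀ n, abut.IsFinite n) (h : Cond E N a c b d 2 le_rfl) (ha : ∀ q, 0 ≤ a q)
    (hc : ∀ p, 0 ≤ c p) (hsum : Summable fun p : ℕ => c p * (d p : ℝ)) :
    Summable (fun n : ℕ => ‖tr (H n)‖) ∧
      ∑' n : ℕ, (-1 : ℂ) ^ n * tr (H n) = ∑' pq : ℕ × ℕ, G E 2 le_rfl (toZ pq) := by
  let L : ℕ × ℕ → ℂ := fun pq => G E (abut.rk (toZ pq)) (abut.stat _).1 (toZ pq)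
  have hL : ∀ pq, ‖L pq‖ ≤ bound N a c b d pq := fun pq => by
    simp only [L, G, norm_mul, norm_sgn, one_mul]
    exact norm_tr_le ha hc pq.1 pq.2 ((h.of_le _ (abut.stat _).1).bdd pq.1 pq.2)
      ((h.of_le _ (abut.stat _).1).top pq.1 pq.2)
  have hlim : ∑' pq, L pq = ∑' pq : ℕ × ℕ, G E 2 le_rfl (toZ pq) := by
    have ht := tendsto_tsum_of_dominated_convergence (𝓕 := atTop (α := ℕ))
      (f := fun (n : ℕ) pq => G E (2 + n) (by omega) (toZ pq)) (g := L)
      (summable_bound (N := N) (b := b) ha hc hsum) (fun pq => ?_) ?_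
    · exact (tendsto_nhds_unique
        (ht.congr fun n => tsum_of_le h ha hc hsum _ (by omega)) tendsto_const_nhds)
    · refine tendsto_atTop_of_eventually_const
        (i₀ := (abut.rk (toZ pq) - 2).toNat) fun n hn => ?_
      obtain ⟨e⟩ := SpSeqPO.nonempty_stat_iso E (toZ pq) _ (abut.stat _) (2 + n) (by omega)
      simp only [L, G, tr_iso e]
    · refine Eventually.of_forall fun n pq => ?_
      simp only [G, norm_mul, norm_sgn, one_mul]
      exact norm_tr_le ha hc pq.1 pq.2 ((h.of_le (2 + n) (by omega)).bdd pq.1 pq.2)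
        ((h.of_le (2 + n) (by omega)).top pq.1 pq.2)
  have hH : ∀ n : ℕ, (-1 : ℂ) ^ n * tr (H n) =
      ∑ pq ∈ Finset.HasAntidiagonal.antidiagonal n, L pq := by
    intro n
    obtain ⟨⟨A₀, hA₀⟩, ⟨B₀, hB₀⟩⟩ := hfin n
    change abut.fil n A₀ = ⊤ at hA₀
    change abut.fil n B₀ = ⊥ at hB₀
    let A := min A₀ 0
    let B := max B₀ ((n : ℤ) + 1)
    have hA : abut.fil n A = ⊤ := top_le_iff.1 (hA₀ ▸ abut.anti n (min_le_left _ _))
    have hB : abut.fil n B = ⊥ := le_bot_iff.1 (hB₀ ▸ abut.anti n (le_max_left _ _))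
    have hgr : ∀ s, Module.Finite ℂ (UC (SpSeq.grPiece (abut.fil n) (abut.anti n) s)) := fun s => by
      obtain ⟨e⟩ := SpSeqPO.nonempty_gr_iso_stat abut (s, (n : ℤ) - s) _ (abut.stat _) n
        (add_sub_cancel s (n : ℤ))
      haveI := (h.of_le _ (abut.stat (s, (n : ℤ) - s)).1).finite (s, (n : ℤ) - s)
      exact Module.Finite.of_injective (ul e.hom) (ul_injective _)
    have hzB : IsZero (abut.fil n B : Mod.{u}) := by
      rw [hB]; exact (isZero_zero _).of_iso Subobject.botCoeIsoZero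
    obtain ⟨-, e⟩ := fil_tr (abut.fil n) (abut.anti n) A B (by omega) hgr (bdd_of_isZero hzB 0).1
    haveI : IsIso (abut.fil n A).arrow := (Subobject.isIso_arrow_iff_eq_top _).2 hA
    rw [tr_iso (asIso (abut.fil n A).arrow), tr_eq_zero_of_isZero hzB, add_zero] at e
    have hmap : Finset.Icc (0 : ℤ) n =
        (Finset.HasAntidiagonal.antidiagonal n).image fun pq : ℕ × ℕ => (pq.1 : ℤ) := by
      ext s
      simp only [Finset.mem_Icc, Finset.mem_image, Finset.HasAntidiagonal.mem_antidiagonal]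
      exact ⟨fun hs => ⟨(s.toNat, n - s.toNat), by omega, by simp; omega⟩,
        fun ⟨pq, hpq, hs⟩ => by omega⟩
    have hsub : Finset.Icc (0 : ℤ) n ⊆ Finset.Ico A B := by
      intro s hs
      simp only [Finset.mem_Icc] at hs
      simp only [Finset.mem_Ico, A, B]
      omega
    rw [← Finset.sum_subset hsub (fun s _ hs => tr_eq_zero_of_isZero
      (SpSeqPO.isZero_gr abut (s, (n : ℤ) - s) 2 le_rfl (h.quad _ (by
        simp only [Finset.mem_Icc] at hs; show s < 0 ∨ (n : ℤ) - s < 0; omega)) n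
        (add_sub_cancel s (n : ℤ)))), hmap, Finset.sum_image (fun x hx y hy hxy => by
          simp only [Finset.mem_coe, Finset.HasAntidiagonal.mem_antidiagonal] at hx hy
          exact Prod.ext (by omega) (by omega))] at e
    rw [e, Finset.mul_sum]
    refine Finset.sum_congr rfl fun pq hpq => ?_
    rw [Finset.HasAntidiagonal.mem_antidiagonal] at hpq
    obtain ⟨i⟩ := SpSeqPO.nonempty_gr_iso_stat abut (toZ pq) _ (abut.stat _) n
      (show (pq.1 : ℤ) + pq.2 = n by omega)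
    simp only [L, G, sgn_toZ, hpq]
    rw [← tr_iso i]
    rfl
  have hnorm : Summable fun x : (Σ n : ℕ, Finset.HasAntidiagonal.antidiagonal n) =>
      bound N a c b d (Finset.HasAntidiagonal.sigmaAntidiagonalEquivProd x) :=
    Finset.HasAntidiagonal.sigmaAntidiagonalEquivProd.summable_iff.2 (summable_bound ha hc hsum)
  have hB' := hnorm.sigma
  simp only [tsum_fintype] at hB'
  refine ⟨Summable.of_nonneg_of_le (fun n => norm_nonneg _) (fun n => ?_) hB', ?_⟩
  · have := congrArg (fun z => ‖z‖) (hH n)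
    simp only [norm_mul, norm_pow, norm_neg, norm_one, one_pow, one_mul] at this
    rw [this]
    refine (norm_sum_le _ _).trans ?_
    rw [Finset.univ_eq_attach]
    exact ((Finset.sum_le_sum fun pq _ => hL pq).trans_eq (Finset.sum_attach _ _).symm)
  · have hs : Summable L := Summable.of_norm_bounded (summable_bound ha hc hsum) hL
    have hs' : Summable fun x : (Σ n : ℕ, Finset.HasAntidiagonal.antidiagonal n) =>
        L (Finset.HasAntidiagonal.sigmaAntidiagonalEquivProd x) :=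
      Finset.HasAntidiagonal.sigmaAntidiagonalEquivProd.summable_iff.2 hs
    rw [← hlim, ← Finset.HasAntidiagonal.sigmaAntidiagonalEquivProd.tsum_eq L, hs'.tsum_sigma]
    refine tsum_congr fun n => ?_
    rw [hH n, tsum_fintype, Finset.univ_eq_attach]
    exact (Finset.sum_attach _ _).symm

end Groth.Agent.SpSeqTrace
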